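import Cfsg.Agent.H717.M23.TabNum
import Cfsg.Agent.H651.HNF.Raw

/-!
# The input `hnum` of `Raw.table` for `HN` (helper717)
-/

set_option autoImplicit false

namespace Cfsg.Agent.H717.M23.RawNum

open Subgroup Cfsg.Agent.H651.HNF

section

variable {H : Type} [Group H]

theorem cn_conj {g h : H} (hc : IsConj g h) : cn g = cn h := Cfsg.Agent.H871.Th7.card_cent_conj hc

theorem tyH_conj {g h : H} (hc : IsConj g h) : tyH g = tyH h := by
  obtain ⟨c, rfl⟩ := isConj_iff.1 hc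
  have e1 : orderOf (c * g * c⁻¹) = orderOf g := MulEquiv.orderOf_eq (MulAut.conj c) g
  unfold tyH
  rw [e1, cn_conj hc]

variable [Finite H]

/-- elements of order `p q` from the centralizer -/
theorem exists_mul {x : H} {p q : ℕ} (hx : orderOf x = p) (hq : q.Prime) (hd : q ∣ cn x) (hpq : p.Coprime q) :
    ∃ g : H, orderOf g = p * q := by
  have := Fact.mk hq
  obtain ⟨z, hz⟩ := exists_prime_orderOf_dvd_card' (G := centralizer ({x} : Set H)) q hd
  have hz' : orderOf (z : H) = q := by rw [Subgroup.orderOf_coe, hz]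
  have hc : Commute x (z : H) := (mem_centralizer_singleton_iff.1 z.2).symm
  refine ⟨x * z, ?_⟩
  rw [hc.orderOf_mul_eq_mul_orderOf_of_coprime (by rw [hx, hz']; exact hpq), hx, hz']

/-- **an element of each type** -/
theorem exists_ty (R : Raw H) (e8a : ∃ g : H, orderOf g = 8 ∧ cn g = 80) (e8b : ∃ g : H, orderOf g = 8 ∧ cn g = 64)
    (e9 : ∃ g : H, orderOf g = 9) (e12a : ∃ g : H, orderOf g = 12 ∧ cn g = 72)
    (e12b : ∃ g : H, orderOf g = 12 ∧ cn g = 48) (e12c : ∃ g : H, orderOf g = 12 ∧ cn g = 12) :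
    ∀ t : Ty, t ≠ .sing → ∃ g : H, tyH g = t := by
  have pr : ∀ p : ℕ, p.Prime → p ∣ 273030912000000 → ∃ g : H, orderOf g = p := by
    intro p hp hd
    have := Fact.mk hp
    exact exists_prime_orderOf_dvd_card' (G := H) p (by rw [R.card]; exact hd)
  -- the elements of large order
  have t8a : ∃ g : H, tyH g = .c8A := by
    obtain ⟨g, h1, h2⟩ := e8a
    exact ⟨g, by rw [tyH_of h1 h2]; rfl⟩
  have t8b : ∃ g : H, tyH g = .c8B := by
    obtain ⟨g, h1, h2⟩ := e8b
    exact ⟨g, by rw [tyH_of h1 h2]; rfl⟩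
  have t12a : ∃ g : H, tyH g = .c12A := by
    obtain ⟨g, h1, h2⟩ := e12a
    exact ⟨g, by rw [tyH_of h1 h2]; rfl⟩
  have t12b : ∃ g : H, tyH g = .c12B := by
    obtain ⟨g, h1, h2⟩ := e12b
    exact ⟨g, by rw [tyH_of h1 h2]; rfl⟩
  have t12c : ∃ g : H, tyH g = .c12C := by
    obtain ⟨g, h1, h2⟩ := e12c
    exact ⟨g, by rw [tyH_of h1 h2]; rfl⟩
  have t7 : ∃ g : H, orderOf g = 7 := pr 7 (by norm_num) (by norm_num)
  have t11 : ∃ g : H, orderOf g = 11 := pr 11 (by norm_num) (by norm_num)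
  have t19 : ∃ g : H, orderOf g = 19 := pr 19 (by norm_num) (by norm_num)
  have t14 : ∃ g : H, orderOf g = 14 := by
    obtain ⟨x, hx⟩ := t7
    exact exists_mul (q := 2) hx Nat.prime_two (by rw [R.r7 x hx]; norm_num) (by norm_num)
  have t21 : ∃ g : H, orderOf g = 21 := by
    obtain ⟨x, hx⟩ := t7
    exact exists_mul (q := 3) hx Nat.prime_three (by rw [R.r7 x hx]; norm_num) (by norm_num)
  have t22 : ∃ g : H, orderOf g = 22 := by
    obtain ⟨x, hx⟩ := t11
    exact exists_mul (q := 2) hx Nat.prime_two (by rw [R.r11 x hx]; norm_num) (by norm_num)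
  -- the powers
  have pw : ∀ (t : Ty) (p : ℕ), p.Prime → t ≠ .sing → p ∣ t.ord → (∃ g : H, tyH g = t) → ∃ g : H, tyH g = t.pw p := by
    rintro t p hp ht hd ⟨g, rfl⟩
    have h5 : ¬ 5 ∣ orderOf g := fun h => ht ((R.sing_iff g).2 h)
    refine ⟨g ^ p, R.pow_dvd g p hp h5 ?_⟩
    rw [(R.rows g h5).2.1]
    exact hd
  have t4a : ∃ g : H, tyH g = .c4A := pw .c8B 2 Nat.prime_two (by decide) (by decide) t8b
  have t4b : ∃ g : H, tyH g = .c4B := pw .c8A 2 Nat.prime_two (by decide) (by decide) t8a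
  have t4c : ∃ g : H, tyH g = .c4C := pw .c12C 3 Nat.prime_three (by decide) (by decide) t12c
  have t6a : ∃ g : H, tyH g = .c6A := pw .c12A 2 Nat.prime_two (by decide) (by decide) t12a
  have t6b : ∃ g : H, tyH g = .c6B := pw .c12B 2 Nat.prime_two (by decide) (by decide) t12b
  have t6c : ∃ g : H, tyH g = .c6C := pw .c12C 2 Nat.prime_two (by decide) (by decide) t12c
  have t2a : ∃ g : H, tyH g = .c2A := pw .c6A 3 Nat.prime_three (by decide) (by decide) t6a
  have t2b : ∃ g : H, tyH g = .c2B := pw .c6B 3 Nat.prime_three (by decide) (by decide) t6b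
  have t3a : ∃ g : H, tyH g = .c3A := pw .c6A 2 Nat.prime_two (by decide) (by decide) t6a
  have t3b : ∃ g : H, tyH g = .c3B := pw .c6C 2 Nat.prime_two (by decide) (by decide) t6c
  intro t ht
  cases t with
  | sing => exact absurd rfl ht
  | c1 => exact ⟨1, by unfold tyH; rw [orderOf_one]; rfl⟩
  | c2A => exact t2a
  | c2B => exact t2b
  | c3A => exact t3a
  | c3B => exact t3b
  | c4A => exact t4a
  | c4B => exact t4b
  | c4C => exact t4c
  | c6A => exact t6a
  | c6B => exact t6b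
  | c6C => exact t6c
  | c7 => obtain ⟨g, h⟩ := t7; exact ⟨g, by unfold tyH; rw [h]; rfl⟩
  | c8A => exact t8a
  | c8B => exact t8b
  | c9 => obtain ⟨g, h⟩ := e9; exact ⟨g, by unfold tyH; rw [h]; rfl⟩
  | c11 => obtain ⟨g, h⟩ := t11; exact ⟨g, by unfold tyH; rw [h]; rfl⟩
  | c12A => exact t12a
  | c12B => exact t12b
  | c12C => exact t12c
  | c14 => obtain ⟨g, h⟩ := t14; exact ⟨g, by unfold tyH; rw [h]; rfl⟩
  | c19 => obtain ⟨g, h⟩ := t19; exact ⟨g, by unfold tyH; rw [h]; rfl⟩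
  | c21 => obtain ⟨g, h⟩ := t21; exact ⟨g, by unfold tyH; rw [h]; rfl⟩
  | c22 => obtain ⟨g, h⟩ := t22; exact ⟨g, by unfold tyH; rw [h]; rfl⟩

theorem conj_tyH (R : Raw H) (g h : H) (hgh : tyH g = tyH h) (hg : tyH g ≠ .sing) (h19 : tyH g ≠ .c19) : IsConj g h := by
  have h1 := R.rows g (fun h => hg ((R.sing_iff g).2 h))
  have h2 := R.rows h (fun h' => hg (hgh.trans ((R.sing_iff h).2 h')))
  refine R.conj g h ?_ ?_ (fun h => hg ((R.sing_iff g).2 h)) ?_
  · rw [h1.2.1, h2.2.1, hgh]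
  · rw [h1.2.2, h2.2.2, hgh]
  · intro h3
    apply h19
    rw [tyH_of h3 (R.r19 g h3)]
    rfl

theorem nineteen : ∀ t : Ty, t.ord = 19 → t = .c19 := by decide +kernel

theorem tyH_nineteen (R : Raw H) (g : H) : tyH g = .c19 ↔ orderOf g = 19 := by
  constructor
  · intro h
    have h1 := R.rows g (fun h' => by
      have h2 := (R.sing_iff g).2 h'
      rw [h] at h2
      exact absurd h2 (by decide))
    rw [h1.2.1, h]
    rfl
  · intro h
    have h1 := R.rows g (by rw [h]; norm_num)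
    exact nineteen _ (by rw [← h1.2.1, h])

end

/-- **the numbers of elements**, the input `hnum` of `Raw.table` -/
theorem num_of_raw (R : Raw Cfsg.Spor.HN) (e8a : ∃ g : Cfsg.Spor.HN, orderOf g = 8 ∧ cn g = 80)
    (e8b : ∃ g : Cfsg.Spor.HN, orderOf g = 8 ∧ cn g = 64) (e9 : ∃ g : Cfsg.Spor.HN, orderOf g = 9)
    (e12a : ∃ g : Cfsg.Spor.HN, orderOf g = 12 ∧ cn g = 72) (e12b : ∃ g : Cfsg.Spor.HN, orderOf g = 12 ∧ cn g = 48)
    (e12c : ∃ g : Cfsg.Spor.HN, orderOf g = 12 ∧ cn g = 12) :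
    ∀ t : Ty, t ≠ .sing → Nat.card {g : Cfsg.Spor.HN // tyH g = t} = t.num :=
  Cfsg.Agent.H717.M23.TabNum.num (fun g hg => (R.rows g (fun h => hg ((R.sing_iff g).2 h))).2.2)
    (fun _ _ h => tyH_conj h) (conj_tyH R) (tyH_nineteen R)
    (fun t ht _ => exists_ty R e8a e8b e9 e12a e12b e12c t ht)

end Cfsg.Agent.H717.M23.RawNum
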