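import Cfsg.Agent.H717.M23.TabNumA
import Cfsg.Agent.H651.HNF.Big

/-!
# The number of elements of order 19 of `HN`, and the field `num` of `Table` (helper717)
-/

set_option autoImplicit false

namespace Cfsg.Agent.H717.M23.TabNum

open Subgroup Cfsg.Agent.H651.HNF

/-- **the number of elements of order 19** -/
theorem card_nineteen [Finite Cfsg.Spor.HN] : Nat.card {g : Cfsg.Spor.HN // orderOf g = 19} = 28740096000000 := by
  have hp : Fact (Nat.Prime 19) := ⟨by norm_num⟩
  have hG : Nat.card Cfsg.Spor.HN = 273030912000000 := card_G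
  have hd : 19 ∣ Nat.card Cfsg.Spor.HN := by rw [hG]; norm_num
  have h2 : ¬ 19 ^ 2 ∣ Nat.card Cfsg.Spor.HN := by rw [hG]; norm_num
  obtain ⟨x, hx⟩ := exists_prime_orderOf_dvd_card' (G := Cfsg.Spor.HN) 19 hd
  have h3 := card_normalizer_eq (e := 9) (n := 14370048000000) (K := 1) h2 hx (by rw [card19 x hx]) (by rw [hG])
    (by norm_num) (by norm_num) (by norm_num)
  have h4 := card_order hd h2 hx
  rw [h3, hG] at h4
  omega

/-- **the field `num`** -/
theorem num [Finite Cfsg.Spor.HN] {ty : Cfsg.Spor.HN → Ty}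
    (hcent : ∀ g, ty g ≠ .sing → Nat.card (centralizer ({g} : Set Cfsg.Spor.HN)) = (ty g).cen)
    (hinv : ∀ g h, IsConj g h → ty g = ty h)
    (hconj : ∀ g h, ty g = ty h → ty g ≠ .sing → ty g ≠ .c19 → IsConj g h)
    (h19 : ∀ g, ty g = .c19 ↔ orderOf g = 19)
    (hex : ∀ t : Ty, t ≠ .sing → t ≠ .c19 → ∃ g, ty g = t) :
    ∀ t, t ≠ .sing → Nat.card {g : Cfsg.Spor.HN // ty g = t} = t.num := by
  intro t ht
  by_cases h : t = .c19
  · subst h
    rw [Nat.card_congr (Equiv.subtypeEquivRight h19), card_nineteen]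
    rfl
  · exact num_of card_G hcent hinv hconj ht h (hex t ht h)

end Cfsg.Agent.H717.M23.TabNum
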