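import Cfsg.Agent.H651.HNF.Table

/-!
# The field `pow` of `Table` for the large primes and the primes prime to the order (helper717, (M,23))

* `sq_of`, `cu_of` : the power maps of 2, 3 for the types determined by order and centralizer;
* `pow_of` : the field `pow`, from `sing`, `ord`, `cent`, `real` and the squares and cubes of the elements of even (tripartite) order.
-/

set_option autoImplicit false

namespace Cfsg.Agent.H717.M23.TabPow

open Subgroup Cfsg.Agent.H651.HNF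

theorem dec7 : ∀ t s : Ty, t ≠ .sing → s ≠ .sing → 7 ∣ t.ord → s.ord = t.ord / 7 → t.cen ∣ s.cen → s = t.pw 7 := by
  decide +kernel

theorem dec11 : ∀ t s : Ty, t ≠ .sing → s ≠ .sing → 11 ∣ t.ord → s.ord = t.ord / 11 → t.cen ∣ s.cen → s = t.pw 11 := by
  decide +kernel

theorem dec19 : ∀ t s : Ty, t ≠ .sing → s ≠ .sing → 19 ∣ t.ord → s.ord = t.ord / 19 → t.cen ∣ s.cen → s = t.pw 19 := by
  decide +kernel

theorem cop2 : ∀ t : Ty, t ≠ .sing → ¬ 2 ∣ t.ord → t.pw 2 = t := by decide +kernel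
theorem cop3 : ∀ t : Ty, t ≠ .sing → ¬ 3 ∣ t.ord → t.pw 3 = t := by decide +kernel
theorem cop7 : ∀ t : Ty, t ≠ .sing → ¬ 7 ∣ t.ord → t.pw 7 = t := by decide +kernel
theorem cop11 : ∀ t : Ty, t ≠ .sing → ¬ 11 ∣ t.ord → t.pw 11 = t := by decide +kernel
theorem cop19 : ∀ t : Ty, t ≠ .sing → ¬ 19 ∣ t.ord → t.pw 19 = t := by decide +kernel

theorem other (p : ℕ) (h2 : p ≠ 2) (h3 : p ≠ 3) (h7 : p ≠ 7) (h11 : p ≠ 11) (h19 : p ≠ 19) (t : Ty) : t.pw p = t := by
  unfold Ty.pw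
  rw [if_neg h2, if_neg h3, if_neg h7, if_neg h11, if_neg h19]

theorem ord_dvd : ∀ t : Ty, t ≠ .sing → t.ord ∣ 2 ^ 3 * 3 ^ 2 * 7 * 11 * 19 := by decide +kernel

section

variable {H : Type*} [Group H] [Finite H] {ty : H → Ty}

theorem cen_dvd (g : H) (n : ℕ) :
    Nat.card (centralizer ({g} : Set H)) ∣ Nat.card (centralizer ({g ^ n} : Set H)) := by
  refine Subgroup.card_dvd_of_le fun c hc => ?_
  rw [mem_centralizer_singleton_iff] at hc ⊢
  exact ((show Commute c g from hc).pow_right n).eq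

/-- the type of a power is not singular -/
theorem ns_pow (hsing : ∀ g, ty g = .sing ↔ 5 ∣ orderOf g) {g : H} (hg : ty g ≠ .sing) (n : ℕ) : ty (g ^ n) ≠ .sing :=
  fun h => hg ((hsing g).2 (((hsing _).1 h).trans (orderOf_pow_dvd n)))

/-- the data of the type of a `p`-th power -/
theorem data (hsing : ∀ g, ty g = .sing ↔ 5 ∣ orderOf g) (hord : ∀ g, ty g ≠ .sing → orderOf g = (ty g).ord)
    (hcent : ∀ g, ty g ≠ .sing → Nat.card (centralizer ({g} : Set H)) = (ty g).cen) {g : H} (hg : ty g ≠ .sing)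
    {p : ℕ} (hp : p ∣ orderOf g) :
    ty (g ^ p) ≠ .sing ∧ p ∣ (ty g).ord ∧ (ty (g ^ p)).ord = (ty g).ord / p ∧ (ty g).cen ∣ (ty (g ^ p)).cen := by
  have hn := ns_pow hsing hg p
  refine ⟨hn, hord g hg ▸ hp, ?_, ?_⟩
  · rw [← hord g hg, ← hord _ hn, orderOf_pow, Nat.gcd_eq_right hp]
  · rw [← hcent g hg, ← hcent _ hn]
    exact cen_dvd g p

/-- **the field `pow`**, from the squares of the elements of even order and the cubes of the elements of order divisible by 3 -/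
theorem pow_of (hsing : ∀ g, ty g = .sing ↔ 5 ∣ orderOf g) (hord : ∀ g, ty g ≠ .sing → orderOf g = (ty g).ord)
    (hcent : ∀ g, ty g ≠ .sing → Nat.card (centralizer ({g} : Set H)) = (ty g).cen)
    (hreal : ∀ g, ty g ≠ .sing → ∀ m : ℕ, m.Coprime (orderOf g) → ty (g ^ m) = ty g)
    (h2 : ∀ g, ty g ≠ .sing → 2 ∣ orderOf g → ty (g ^ 2) = (ty g).sq)
    (h3 : ∀ g, ty g ≠ .sing → 3 ∣ orderOf g → ty (g ^ 3) = (ty g).cu) :
    ∀ g p, p.Prime → ty g ≠ .sing → ty (g ^ p) = (ty g).pw p := by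
  intro g p hp hg
  by_cases hd : p ∣ orderOf g
  · by_cases e2 : p = 2
    · subst e2; exact h2 g hg hd
    by_cases e3 : p = 3
    · subst e3; exact h3 g hg hd
    obtain ⟨a1, a2, a3, a4⟩ := data hsing hord hcent hg hd
    by_cases e7 : p = 7
    · subst e7; exact dec7 _ _ hg a1 a2 a3 a4
    by_cases e11 : p = 11
    · subst e11; exact dec11 _ _ hg a1 a2 a3 a4
    by_cases e19 : p = 19
    · subst e19; exact dec19 _ _ hg a1 a2 a3 a4
    exfalso
    have h := (a2.trans (ord_dvd _ hg))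
    have q2 : ∀ {a b : ℕ}, p ∣ a * b → p ∣ a ∨ p ∣ b := fun h => (Nat.Prime.dvd_mul hp).1 h
    have q1 : ∀ {a : ℕ}, a.Prime → p ∣ a → p = a := fun ha h => (Nat.prime_dvd_prime_iff_eq hp ha).1 h
    rcases q2 h with h | h
    · rcases q2 h with h | h
      · rcases q2 h with h | h
        · rcases q2 h with h | h
          · exact e2 (q1 (by norm_num) (hp.dvd_of_dvd_pow h))
          · exact e3 (q1 (by norm_num) (hp.dvd_of_dvd_pow h))
        · exact e7 (q1 (by norm_num) h)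
      · exact e11 (q1 (by norm_num) h)
    · exact e19 (q1 (by norm_num) h)
  · rw [hreal g hg p ((Nat.Prime.coprime_iff_not_dvd hp).2 hd)]
    rw [hord g hg] at hd
    by_cases e2 : p = 2
    · subst e2; exact (cop2 _ hg hd).symm
    by_cases e3 : p = 3
    · subst e3; exact (cop3 _ hg hd).symm
    by_cases e7 : p = 7
    · subst e7; exact (cop7 _ hg hd).symm
    by_cases e11 : p = 11
    · subst e11; exact (cop11 _ hg hd).symm
    by_cases e19 : p = 19
    · subst e19; exact (cop19 _ hg hd).symm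
    exact (other p e2 e3 e7 e11 e19 _).symm

/-! ### The squares and cubes determined by order and centralizer -/

/-- the types whose square is determined by order and centralizer -/
theorem decsq : ∀ t s : Ty, t ≠ .sing → s ≠ .sing → 2 ∣ t.ord → s.ord = t.ord / 2 → t.cen ∣ s.cen →
    t ∉ [Ty.c4A, .c4B, .c4C, .c6C, .c8A, .c8B, .c12A, .c12B, .c12C] → s = t.sq := by
  decide +kernel

/-- the types whose cube is determined by order and centralizer -/
theorem deccu : ∀ t s : Ty, t ≠ .sing → s ≠ .sing → 3 ∣ t.ord → s.ord = t.ord / 3 → t.cen ∣ s.cen →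
    t ∉ [Ty.c6A, .c6B, .c6C, .c9, .c12B, .c12C] → s = t.cu := by
  decide +kernel

theorem sq_of (hsing : ∀ g, ty g = .sing ↔ 5 ∣ orderOf g) (hord : ∀ g, ty g ≠ .sing → orderOf g = (ty g).ord)
    (hcent : ∀ g, ty g ≠ .sing → Nat.card (centralizer ({g} : Set H)) = (ty g).cen)
    (h : ∀ g, ty g ∈ [Ty.c4A, .c4B, .c4C, .c6C, .c8A, .c8B, .c12A, .c12B, .c12C] → ty (g ^ 2) = (ty g).sq) :
    ∀ g, ty g ≠ .sing → 2 ∣ orderOf g → ty (g ^ 2) = (ty g).sq := by
  intro g hg hd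
  by_cases hm : ty g ∈ [Ty.c4A, .c4B, .c4C, .c6C, .c8A, .c8B, .c12A, .c12B, .c12C]
  · exact h g hm
  · obtain ⟨a1, a2, a3, a4⟩ := data hsing hord hcent hg hd
    exact decsq _ _ hg a1 a2 a3 a4 hm

theorem cu_of (hsing : ∀ g, ty g = .sing ↔ 5 ∣ orderOf g) (hord : ∀ g, ty g ≠ .sing → orderOf g = (ty g).ord)
    (hcent : ∀ g, ty g ≠ .sing → Nat.card (centralizer ({g} : Set H)) = (ty g).cen)
    (h : ∀ g, ty g ∈ [Ty.c6A, .c6B, .c6C, .c9, .c12B, .c12C] → ty (g ^ 3) = (ty g).cu) :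
    ∀ g, ty g ≠ .sing → 3 ∣ orderOf g → ty (g ^ 3) = (ty g).cu := by
  intro g hg hd
  by_cases hm : ty g ∈ [Ty.c6A, .c6B, .c6C, .c9, .c12B, .c12C]
  · exact h g hm
  · obtain ⟨a1, a2, a3, a4⟩ := data hsing hord hcent hg hd
    exact deccu _ _ hg a1 a2 a3 a4 hm

end

end Cfsg.Agent.H717.M23.TabPow
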